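import Groth.Agent.FlatMor.NLFlatBC
import Mathlib.RingTheory.Etale.Kaehler
import Mathlib.RingTheory.Localization.BaseChange

/-!
# `H¹` of the naive cotangent complex along squares of ring maps

`H φ` for a ring map `φ`, `mapH` for a commutative square, behaviour under localization, and the class
`clsH φ a` of an element `a` of the kernel.
-/

set_option autoImplicit false
set_option linter.style.haveILetI false

universe u

open TensorProduct

namespace Groth.Agent.FlatMor.H1

open Algebra

section Base

variable {R S R' S' : Type u} [CommRing R] [CommRing S] [CommRing R'] [CommRing S'] [Algebra R S]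
  [Algebra R' S'] [Algebra R R'] [Algebra S S'] [Algebra R S'] [IsScalarTower R R' S']
  [IsScalarTower R S S'] {ι : Type u}

/-- If the base change map on cotangent modules is bijective, so is the one on their kernels. -/
theorem bijective_h1_map_sameVars {G : Generators R S' ι} (G' : Generators R' S' ι)
    (h : ∀ i, G'.val i = algebraMap S' S' (G.val i)) [Algebra.IsPushout R R' S' S'] [Module.Flat R R'] :
    Function.Bijective (Extension.H1Cotangent.map (NLCx.sameVarsHom G G' h).toExtensionHom) := by
  set f := (NLCx.sameVarsHom G G' h).toExtensionHom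
  have key : ∀ {M N : Type u} [AddCommGroup M] [Module S' M] [AddCommGroup N] [Module S' N]
      (l : M →ₗ[S'] N) (x : M), l x = LinearMap.liftBaseChange S' l (1 ⊗ₜ x) := by
    intros; simp
  have hc : Function.Bijective (Extension.Cotangent.map f) := by
    have := (NLBC.bijective_cotangent G G' h (NLBC.lTensor_ker_injective_of_flat_base G)).comp
      (TensorProduct.lid S' G.toExtension.Cotangent).symm.bijective
    convert this using 1
    funext x
    exact key _ x
  have hs : Function.Injective (Extension.CotangentSpace.map f) := by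
    have := (NLBC.bijective_cotangentSpace G G' h).1.comp
      (TensorProduct.lid S' G.toExtension.CotangentSpace).symm.injective
    convert this using 1
    funext x
    exact key _ x
  refine ⟨fun a b hab => Subtype.ext (hc.1 congr(Subtype.val $hab)), fun y => ?_⟩
  obtain ⟨x, hx⟩ := hc.2 y.1
  refine ⟨⟨x, hs ?_⟩, Subtype.ext hx⟩
  rw [map_zero, Extension.CotangentSpace.map_cotangentComplex, hx]
  exact y.2

end Base

/-- A flat epimorphism of the base does not change `H¹`. -/
theorem bijective_map_base (R R' T : Type u) [CommRing R] [CommRing R'] [CommRing T] [Algebra R R']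
    [Algebra R T] [Algebra R' T] [IsScalarTower R R' T] [Algebra.IsPushout R R' T T] [Module.Flat R R'] :
    Function.Bijective (H1Cotangent.map R R' T T) := by
  let G := Generators.self R T
  let G' : Generators R' T T :=
    Generators.ofSurjective (fun i => algebraMap T T (G.val i)) (NLBC.aeval_surjective_of_isPushout G)
  let T' := Generators.self R' T
  let f₁ := (NLCx.sameVarsHom G G' fun _ => rfl).toExtensionHom
  let k := (G'.defaultHom T').toExtensionHom
  have h2 : ∀ x, H1Cotangent.map R R' T T x =
      Generators.H1Cotangent.equiv G' T' (Extension.H1Cotangent.map f₁ x) := by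
    intro x
    show Extension.H1Cotangent.map _ x = Extension.H1Cotangent.map k (Extension.H1Cotangent.map f₁ x)
    rw [← Extension.H1Cotangent.map_comp_apply]
    exact congr($(Extension.H1Cotangent.map_eq _ (k.comp f₁)) x)
  have := (Generators.H1Cotangent.equiv G' T').bijective.comp
    (bijective_h1_map_sameVars (G := G) G' fun _ => rfl)
  convert this using 1
  exact funext h2

/-- `H¹` of the naive cotangent complex of a ring map. -/
noncomputable abbrev H {A B : Type u} [CommRing A] [CommRing B] (φ : A →+* B) : Type u :=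
  letI := φ.toAlgebra
  Algebra.H1Cotangent A B

section Square

variable {A B A' B' A'' B'' : Type u} [CommRing A] [CommRing B] [CommRing A'] [CommRing B']
  [CommRing A''] [CommRing B'']

/-- The map of `H¹` of a commutative square of rings. -/
noncomputable def mapH (φ : A →+* B) (φ' : A' →+* B') (α : A →+* A') (β : B →+* B')
    (h : φ'.comp α = β.comp φ) : H φ →+ H φ' :=
  letI := φ.toAlgebra
  letI := φ'.toAlgebra
  letI := (φ'.comp α).toAlgebra
  letI := β.toAlgebra
  letI := α.toAlgebra
  haveI : IsScalarTower A A' B' := IsScalarTower.of_algebraMap_eq' rfl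
  haveI : IsScalarTower A B B' := IsScalarTower.of_algebraMap_eq' h
  (H1Cotangent.map A A' B B').toAddMonoidHom

theorem mapH_smul (φ : A →+* B) (φ' : A' →+* B') (α : A →+* A') (β : B →+* B')
    (h : φ'.comp α = β.comp φ) (b : B) (m : H φ) :
    mapH φ φ' α β h (b • m) = β b • mapH φ φ' α β h m := by
  letI := φ.toAlgebra
  letI := φ'.toAlgebra
  letI := (φ'.comp α).toAlgebra
  letI := β.toAlgebra
  letI := α.toAlgebra
  haveI : IsScalarTower A A' B' := IsScalarTower.of_algebraMap_eq' rfl
  haveI : IsScalarTower A B B' := IsScalarTower.of_algebraMap_eq' h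
  show H1Cotangent.map A A' B B' (b • m) = β b • H1Cotangent.map A A' B B' m
  rw [map_smul]
  exact (algebraMap_smul B' b _).symm

theorem mapH_comp (φ : A →+* B) (φ' : A' →+* B') (φ'' : A'' →+* B'') (α : A →+* A') (β : B →+* B')
    (h : φ'.comp α = β.comp φ) (α' : A' →+* A'') (β' : B' →+* B'') (h' : φ''.comp α' = β'.comp φ')
    (α'' : A →+* A'') (β'' : B →+* B'') (h'' : φ''.comp α'' = β''.comp φ)
    (hα : α'.comp α = α'') (hβ : β'.comp β = β'') (m : H φ) :
    mapH φ' φ'' α' β' h' (mapH φ φ' α β h m) = mapH φ φ'' α'' β'' h'' m := by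
  subst hα hβ
  letI := φ.toAlgebra
  letI := φ'.toAlgebra
  letI := φ''.toAlgebra
  letI := (φ'.comp α).toAlgebra
  letI := (φ''.comp α').toAlgebra
  letI := (φ''.comp (α'.comp α)).toAlgebra
  letI := β.toAlgebra
  letI := β'.toAlgebra
  letI := (β'.comp β).toAlgebra
  letI := α.toAlgebra
  letI := α'.toAlgebra
  letI := (α'.comp α).toAlgebra
  haveI : IsScalarTower A A' B' := IsScalarTower.of_algebraMap_eq' rfl
  haveI : IsScalarTower A' A'' B'' := IsScalarTower.of_algebraMap_eq' rfl
  haveI : IsScalarTower A A'' B'' := IsScalarTower.of_algebraMap_eq' rfl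
  haveI : IsScalarTower A A' A'' := IsScalarTower.of_algebraMap_eq' rfl
  haveI : IsScalarTower A A' B'' := IsScalarTower.of_algebraMap_eq' rfl
  haveI : IsScalarTower A B B' := IsScalarTower.of_algebraMap_eq' h
  haveI : IsScalarTower A' B' B'' := IsScalarTower.of_algebraMap_eq' h'
  haveI : IsScalarTower B B' B'' := IsScalarTower.of_algebraMap_eq' rfl
  haveI : IsScalarTower A B B'' := IsScalarTower.of_algebraMap_eq' h''
  show H1Cotangent.map A' A'' B' B'' (H1Cotangent.map A A' B B' m) = H1Cotangent.map A A'' B B'' m
  simp only [H1Cotangent.map]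
  rw [← Extension.H1Cotangent.map_comp_apply]
  exact congr($(Extension.H1Cotangent.map_eq _ _) m)

theorem mapH_id (φ : A →+* B) (α : A →+* A) (β : B →+* B) (h : φ.comp α = β.comp φ)
    (hα : α = RingHom.id A) (hβ : β = RingHom.id B) (m : H φ) : mapH φ φ α β h m = m := by
  subst hα hβ
  letI := φ.toAlgebra
  show Extension.H1Cotangent.map _ m = m
  exact congr($(Extension.H1Cotangent.map_eq _ (.id _)) m).trans
    congr($(Extension.H1Cotangent.map_id (P := (Generators.self A B).toExtension)) m)

/-- Localizations of source and base localize `H¹`. -/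
theorem mapH_localization (φ : A →+* B) (φ' : A' →+* B') (α : A →+* A') (β : B →+* B')
    (h : φ'.comp α = β.comp φ) (p : Submonoid A)
    (hp : @IsLocalization A _ p A' _ α.toAlgebra)
    (q : Submonoid B) (hq : @IsLocalization B _ q B' _ β.toAlgebra) :
    (∀ m, mapH φ φ' α β h m = 0 → ∃ b ∈ q, b • m = 0) ∧
      ∀ y, ∃ m, ∃ b ∈ q, β b • y = mapH φ φ' α β h m := by
  letI := φ.toAlgebra
  letI := φ'.toAlgebra
  letI := (φ'.comp α).toAlgebra
  letI := β.toAlgebra
  letI := α.toAlgebra
  haveI : IsScalarTower A A' B' := IsScalarTower.of_algebraMap_eq' rfl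
  haveI : IsScalarTower A B B' := IsScalarTower.of_algebraMap_eq' h
  haveI : IsLocalization p A' := hp
  haveI : IsLocalization q B' := hq
  haveI : Module.Flat A A' := IsLocalization.flat A' p
  haveI : IsLocalization (Algebra.algebraMapSubmonoid B' p) B' := by
    refine IsLocalization.at_units fun x hx => ?_
    obtain ⟨a, ha, rfl⟩ := Submonoid.mem_map.mp hx
    rw [IsScalarTower.algebraMap_apply A A' B']
    exact (IsLocalization.map_units A' (⟨a, ha⟩ : p)).map _
  haveI : Algebra.IsPushout A A' B' B' := (Algebra.isPushout_of_isLocalization p A' B' B').symm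
  let e := LinearEquiv.ofBijective ((H1Cotangent.map A A' B' B').restrictScalars B)
    (bijective_map_base A A' B')
  have hloc : IsLocalizedModule q (e.toLinearMap ∘ₗ H1Cotangent.map A A B B') :=
    IsLocalizedModule.of_linearEquiv q (H1Cotangent.map A A B B') e
  have heq : ∀ m, mapH φ φ' α β h m = e (H1Cotangent.map A A B B' m) := fun m => by
    show H1Cotangent.map A A' B B' m = H1Cotangent.map A A' B' B' (H1Cotangent.map A A B B' m)
    simp only [H1Cotangent.map]
    rw [← Extension.H1Cotangent.map_comp_apply]
    exact congr($(Extension.H1Cotangent.map_eq _ _) m)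
  refine ⟨fun m hm => ?_, fun y => ?_⟩
  · obtain ⟨⟨b, hb⟩, hbm⟩ := (IsLocalizedModule.eq_zero_iff q
      (e.toLinearMap ∘ₗ H1Cotangent.map A A B B')).mp ((heq m).symm.trans hm)
    exact ⟨b, hb, hbm⟩
  · obtain ⟨⟨m, ⟨b, hb⟩⟩, hy⟩ := IsLocalizedModule.surj q (e.toLinearMap ∘ₗ H1Cotangent.map A A B B') y
    refine ⟨m, b, hb, ?_⟩
    rw [heq]
    exact (algebraMap_smul B' b y).trans hy

theorem C_mem_ker (φ : A →+* B) {a : A} (ha : φ a = 0) :
    letI := φ.toAlgebra
    MvPolynomial.C a ∈ (Generators.self A B).ker := by
  letI := φ.toAlgebra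
  rw [Generators.ker_eq_ker_aeval_val, RingHom.mem_ker, MvPolynomial.aeval_C]
  exact ha

/-- The class of an element of the kernel. -/
noncomputable def clsH (φ : A →+* B) (a : A) (ha : φ a = 0) : H φ :=
  letI := φ.toAlgebra
  ⟨Extension.Cotangent.mk ⟨MvPolynomial.C a, C_mem_ker φ ha⟩,
    Extension.Cotangent.mk_C_mem_ker_cotangentComplex (Generators.self A B) (C_mem_ker φ ha)⟩

theorem clsH_add (φ : A →+* B) (a b : A) (ha : φ a = 0) (hb : φ b = 0) :
    clsH φ (a + b) (by rw [map_add, ha, hb, add_zero]) = clsH φ a ha + clsH φ b hb := by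
  letI := φ.toAlgebra
  refine Subtype.ext ?_
  show Extension.Cotangent.mk _ = Extension.Cotangent.mk _ + Extension.Cotangent.mk _
  exact (congrArg _ (Subtype.ext (map_add MvPolynomial.C a b))).trans (map_add Extension.Cotangent.mk _ _)

theorem clsH_mul (φ : A →+* B) (b a : A) (ha : φ a = 0) :
    clsH φ (b * a) (by rw [map_mul, ha, mul_zero]) = φ b • clsH φ a ha := by
  letI := φ.toAlgebra
  refine Subtype.ext ?_
  let c : (Generators.self A B).toExtension.ker := ⟨MvPolynomial.C a, C_mem_ker φ ha⟩
  show Extension.Cotangent.mk _ = φ b • Extension.Cotangent.mk c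
  have h1 : (φ b) = algebraMap (Generators.self A B).toExtension.Ring B (MvPolynomial.C b) := by
    show φ b = MvPolynomial.aeval _ (MvPolynomial.C b)
    rw [MvPolynomial.aeval_C]
    rfl
  let Cb : (Generators.self A B).toExtension.Ring := MvPolynomial.C b
  refine Eq.trans ?_ ((algebraMap_smul B Cb (Extension.Cotangent.mk c)).symm.trans (congrArg (· • Extension.Cotangent.mk c) h1.symm))
  exact (congrArg _ (Subtype.ext (map_mul MvPolynomial.C b a))).trans (map_smul Extension.Cotangent.mk _ c)

theorem mapH_clsH (φ : A →+* B) (φ' : A' →+* B') (α : A →+* A') (β : B →+* B')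
    (h : φ'.comp α = β.comp φ) (a : A) (ha : φ a = 0) (ha' : φ' (α a) = 0) :
    mapH φ φ' α β h (clsH φ a ha) = clsH φ' (α a) ha' := by
  letI := φ.toAlgebra
  letI := φ'.toAlgebra
  letI := (φ'.comp α).toAlgebra
  letI := β.toAlgebra
  letI := α.toAlgebra
  haveI : IsScalarTower A A' B' := IsScalarTower.of_algebraMap_eq' rfl
  haveI : IsScalarTower A B B' := IsScalarTower.of_algebraMap_eq' h
  refine Subtype.ext ?_
  show Extension.Cotangent.map _ (Extension.Cotangent.mk _) = Extension.Cotangent.mk _
  rw [Extension.Cotangent.map_mk]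
  exact congrArg _ (Subtype.ext (MvPolynomial.aeval_C _ a))

/-- For a surjection `H¹` is `J/J²`. -/
theorem clsH_surjective_and_eq_zero_iff (φ : A →+* B) (hφ : Function.Surjective φ) :
    (∀ y : H φ, ∃ (a : A) (ha : φ a = 0), clsH φ a ha = y) ∧
      ∀ (a : A) (ha : φ a = 0), clsH φ a ha = 0 ↔ a ∈ RingHom.ker φ ^ 2 := by
  letI := φ.toAlgebra
  choose lift hlift using hφ
  let G := Generators.self A B
  let ev : MvPolynomial B A →ₐ[A] A := MvPolynomial.aeval lift
  have hev : ∀ p : MvPolynomial B A, φ (ev p) = MvPolynomial.aeval G.val p := by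
    intro p
    induction p using MvPolynomial.induction_on with
    | C a => simp [ev]; rfl
    | add p q hp hq => simp only [map_add, hp, hq]
    | mul_X p i hp =>
      have hi : φ (lift i) = G.val i := hlift i
      rw [map_mul, map_mul, hp, map_mul, MvPolynomial.aeval_X, hi, MvPolynomial.aeval_X]
  refine ⟨fun y => ?_, fun a ha => ⟨fun h0 => ?_, fun h2 => ?_⟩⟩
  · obtain ⟨⟨p, hp⟩, hy⟩ := Extension.Cotangent.mk_surjective y.1
    have hp' : φ (ev p) = 0 := by
      rw [hev]
      rw [← RingHom.mem_ker]
      exact (Generators.ker_eq_ker_aeval_val G) ▸ hp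
    refine ⟨ev p, hp', Subtype.ext ?_⟩
    let g : G.Hom G :=
      { val := fun s => MvPolynomial.C (lift s)
        aeval_val := fun s => by simp [G, RingHom.algebraMap_toAlgebra, hlift] }
    have hg : ∀ q : MvPolynomial B A, g.toAlgHom q = MvPolynomial.C (ev q) := by
      intro q
      induction q using MvPolynomial.induction_on with
      | C a => simp [ev, g]
      | add p q hp hq => simp only [map_add, hp, hq]
      | mul_X p i hp =>
        rw [map_mul, map_mul, map_mul, hp]
        congr 1
        simp [g, ev]
    have h3 := congr($(Extension.H1Cotangent.map_eq (.id G.toExtension) g.toExtensionHom) y)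
    rw [Extension.H1Cotangent.map_id, LinearMap.id_apply] at h3
    refine Eq.trans ?_ (congrArg Subtype.val h3).symm
    show Extension.Cotangent.mk _ = Extension.Cotangent.map g.toExtensionHom y.1
    rw [← hy, Extension.Cotangent.map_mk]
    exact congrArg _ (Subtype.ext (hg p).symm)
  · have h1 := (Extension.Cotangent.mk_eq_zero_iff _).mp (congrArg Subtype.val h0)
    let evR : G.toExtension.Ring →+* A := ev.toRingHom
    have h2 := (Ideal.map_pow evR G.toExtension.ker 2).le (Ideal.mem_map_of_mem evR h1)
    have h4 : (G.toExtension.ker).map evR ≤ RingHom.ker φ := by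
      rw [Ideal.map_le_iff_le_comap]
      intro p hp
      rw [Ideal.mem_comap, RingHom.mem_ker]
      refine (hev p).trans ?_
      rw [← RingHom.mem_ker]
      exact (Generators.ker_eq_ker_aeval_val G) ▸ hp
    have h5 := Ideal.pow_right_mono h4 2 h2
    change ev (MvPolynomial.C a) ∈ _ at h5
    simpa [ev] using h5
  · refine Subtype.ext ((Extension.Cotangent.mk_eq_zero_iff _).mpr ?_)
    have h2' := Ideal.mem_map_of_mem (MvPolynomial.C : A →+* MvPolynomial B A) h2
    rw [Ideal.map_pow] at h2'
    refine Ideal.pow_right_mono (I := (RingHom.ker φ).map MvPolynomial.C) ?_ 2 h2'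
    rw [Ideal.map_le_iff_le_comap]
    exact fun c hc => C_mem_ker φ hc

end Square

end Groth.Agent.FlatMor.H1
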