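import Groth.Agent.FlatMor.H1.Fam
import Groth.Agent.Omega.StalkConormal
import Mathlib.AlgebraicGeometry.Morphisms.FormallyUnramified
import Mathlib.AlgebraicGeometry.Morphisms.Immersion

/-!
# The conormal sheaf of an immersion is `H¹` of its naive cotangent complex
-/

set_option autoImplicit false
set_option linter.style.haveILetI false

universe u

open CategoryTheory AlgebraicGeometry TopologicalSpace Opposite
open Groth.Agent.PullStalk.Sky Groth.Agent.Omega

namespace Groth.Agent.FlatMor.H1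

open OmegaSh

variable {X Z : Scheme.{u}} (i : Z ⟶ X) [IsImmersion i] [QuasiCompact i]

/-- The stalk comparison: `C_z → H¹` of the map of local rings, sending `κ a` to the class of `a`. -/
theorem exists_stalk_comparison (z : Z) :
    ∃ (κ : RingHom.ker (i.stalkMap z).hom →+ (Omega.conormal i).presheaf.stalk z)
      (l : (Omega.conormal i).presheaf.stalk z →ₗ[Z.presheaf.stalk z] Hx i z),
      (∀ U (hx : i z ∈ U) s (h : X.presheaf.germ U (i z) hx (idealSect i.ker U s) ∈
          RingHom.ker (i.stalkMap z).hom),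
        κ ⟨_, h⟩ = germM _ (i ⁻¹ᵁ U) z hx (conormalSect i U s)) ∧
      (∀ a, l (κ a) = clsH (i.stalkMap z).hom a.1 a.2) ∧
      Function.Surjective κ ∧ Function.Bijective l := by
  obtain ⟨κ, hκs, hκg, hκu⟩ := StalkConormal.exists_conormal i z i.isEmbedding.isInducing
  have hφ : Function.Surjective (i.stalkMap z).hom := i.stalkMap_surjective z
  let k : RingHom.ker (i.stalkMap z).hom →+ Hx i z :=
    AddMonoidHom.mk' (fun a => clsH (i.stalkMap z).hom a.1 a.2)
      (fun a b => clsH_add (i.stalkMap z).hom a.1 b.1 a.2 b.2)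
  obtain ⟨l, hl, -⟩ := hκu _ k fun b a => clsH_mul (i.stalkMap z).hom b a.1 a.2
  -- every element of the stalk is a class
  have hsurj : Function.Surjective κ := by
    let R : Submodule (Z.presheaf.stalk z) ((Omega.conormal i).presheaf.stalk z) :=
      { carrier := Set.range κ
        zero_mem' := ⟨0, map_zero κ⟩
        add_mem' := by rintro _ _ ⟨a, rfl⟩ ⟨b, rfl⟩; exact ⟨a + b, map_add κ a b⟩
        smul_mem' := by
          rintro c _ ⟨a, rfl⟩
          obtain ⟨b, rfl⟩ := hφ c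
          exact ⟨b • a, hκs b a⟩ }
    obtain ⟨l₀, -, huniq⟩ := hκu (_ ⧸ R) 0 fun b a => (smul_zero _).symm
    have h1 : R.mkQ = l₀ := huniq _ fun a => (Submodule.Quotient.mk_eq_zero R).mpr ⟨a, rfl⟩
    have h2 : (0 : (Omega.conormal i).presheaf.stalk z →ₗ[Z.presheaf.stalk z] _ ⧸ R) = l₀ :=
      huniq _ fun a => rfl
    intro m
    exact (Submodule.Quotient.mk_eq_zero R).mp (congr($(h1.trans h2.symm) m))
  obtain ⟨hcs, hc0⟩ := clsH_surjective_and_eq_zero_iff (i.stalkMap z).hom hφ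
  refine ⟨κ, l, hκg, hl, hsurj, ⟨?_, fun y => ?_⟩⟩
  · rw [injective_iff_map_eq_zero]
    intro m hm
    obtain ⟨a, rfl⟩ := hsurj m
    rw [hl] at hm
    have h2 : a.1 ∈ RingHom.ker (i.stalkMap z).hom * RingHom.ker (i.stalkMap z).hom := by
      rw [← pow_two]; exact (hc0 a.1 a.2).mp hm
    have key : ∀ c ∈ RingHom.ker (i.stalkMap z).hom * RingHom.ker (i.stalkMap z).hom,
        ∃ hc : c ∈ RingHom.ker (i.stalkMap z).hom, κ ⟨c, hc⟩ = 0 := by
      intro c hc
      refine Submodule.mul_induction_on hc (fun b hb d hd => ⟨Ideal.mul_mem_left _ b hd, ?_⟩) ?_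
      · refine (hκs b ⟨d, hd⟩).trans ?_
        have hb0 : i.stalkMap z b = 0 := hb
        rw [hb0, zero_smul]
      · rintro b d ⟨hb, hb'⟩ ⟨hd, hd'⟩
        exact ⟨add_mem hb hd, (map_add κ ⟨b, hb⟩ ⟨d, hd⟩).trans (by rw [hb', hd', add_zero])⟩
    obtain ⟨_, h⟩ := key a.1 h2
    exact h
  · obtain ⟨a, ha, rfl⟩ := hcs y
    exact ⟨κ ⟨a, ha⟩, hl ⟨a, ha⟩⟩

/-- Germwise comparison sends sections to representable families. -/
theorem rep_of_section
    (κ : ∀ z, RingHom.ker (i.stalkMap z).hom →+ (Omega.conormal i).presheaf.stalk z)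
    (l : ∀ z, (Omega.conormal i).presheaf.stalk z →ₗ[Z.presheaf.stalk z] Hx i z)
    (hκg : ∀ z, ∀ U (hx : i z ∈ U) s (h : X.presheaf.germ U (i z) hx (idealSect i.ker U s) ∈
          RingHom.ker (i.stalkMap z).hom),
        κ z ⟨_, h⟩ = germM _ (i ⁻¹ᵁ U) z hx (conormalSect i U s))
    (hlκ : ∀ z a, l z (κ z a) = clsH (i.stalkMap z).hom a.1 a.2)
    (hsurj : ∀ z, Function.Surjective (κ z)) (W : Z.Opens) (m : Γ(Omega.conormal i, W)) :
    Rep i W (fun z => l z.1 (germM _ W z.1 z.2 m)) := by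
  intro z
  obtain ⟨a, ha⟩ := hsurj z.1 (germM _ W z.1 z.2 m)
  have hrange := Stalks.range_idealStalk i i.isEmbedding.isInducing
  obtain ⟨t, ht⟩ := (hrange z.1).ge a.2
  obtain ⟨V, hzV, σ, rfl⟩ := exists_germM_eq (ClSub.idealMod i.ker) (i z.1) t
  rw [Stalks.idealStalk_germ] at ht
  have hker : ∀ y (hy : i y ∈ V),
      X.presheaf.germ V (i y) hy (idealSect i.ker V σ) ∈ RingHom.ker (i.stalkMap y).hom := fun y hy => by
    have := (hrange y).le ⟨germM _ V (i y) hy σ, Stalks.idealStalk_germ i.ker (i y) V hy σ⟩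
    exact this
  have hgerm : germM _ W z.1 z.2 m = germM _ (i ⁻¹ᵁ V) z.1 hzV (conormalSect i V σ) := by
    rw [← ha, ← hκg z.1 V hzV σ (hker z.1 hzV)]
    exact congrArg _ (Subtype.ext ht.symm)
  obtain ⟨O, hzO, iW, iV, hO⟩ := (Omega.conormal i).presheaf.germ_eq z.1 z.2 hzV m
    (conormalSect i V σ) hgerm
  obtain ⟨V'', hV'', hzV'', hleV⟩ := exists_isAffineOpen_mem_and_subset (U := V) (x := i z.1) hzV
  obtain ⟨U, hU, hzU, hleU⟩ := exists_isAffineOpen_mem_and_subset (U := O ⊓ i ⁻¹ᵁ V'') (x := z.1)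
    ⟨hzO, hzV''⟩
  let U' : Z.affineOpens := ⟨U, hU⟩
  let V' : X.affineOpens := ⟨V'', hV''⟩
  have e : U'.1 ≤ i ⁻¹ᵁ V'.1 := fun y hy => (hleU hy).2
  let r : Γ(X, V'.1) := X.presheaf.map (homOfLE hleV).op (idealSect i.ker V σ)
  have hgr : ∀ y (hy : y ∈ U'.1), X.presheaf.germ V'.1 (i y) (e hy) r =
      X.presheaf.germ V (i y) (hleV (e hy)) (idealSect i.ker V σ) := fun y hy =>
    X.presheaf.germ_res_apply (homOfLE hleV) (i y) (e hy) _
  have hgr0 : ∀ y (hy : y ∈ U'.1), i.stalkMap y (X.presheaf.germ V'.1 (i y) (e hy) r) = 0 := fun y hy => by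
    rw [hgr y hy]
    exact hker y _
  have hr : (i.appLE V'.1 U'.1 e).hom r = 0 := by
    refine TopCat.Presheaf.section_ext Z.sheaf _ _ _ fun y hy => ?_
    have h1 := congr($(appLE_germ i e y hy) r)
    simp only [RingHom.comp_apply] at h1
    exact (h1.symm.trans (hgr0 y hy)).trans (map_zero _).symm
  refine ⟨U', V', e, fun y hy => leOfHom iW (hleU hy).1, hzU,
    clsH (i.appLE V'.1 U'.1 e).hom r hr, fun y hy => ?_⟩
  have h2 : germM _ W y (leOfHom iW (hleU hy).1) m =
      germM _ (i ⁻¹ᵁ V) y (leOfHom iV (hleU hy).1) (conormalSect i V σ) := by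
    unfold germM
    rw [← (Omega.conormal i).presheaf.germ_res_apply iW y (hleU hy).1 m,
      ← (Omega.conormal i).presheaf.germ_res_apply iV y (hleU hy).1 (conormalSect i V σ), hO]
  show l y (germM _ W y _ m) = _
  rw [h2, ← hκg y V _ σ (hker y _), hlκ]
  refine Eq.trans ?_ (mapH_clsH (i.appLE V'.1 U'.1 e).hom (i.stalkMap y).hom _ _ (appLE_germ i e y hy) r hr
    (hgr0 y hy)).symm
  congr 1
  exact (hgr y hy).symm

/-- The conormal sheaf carries the data of `H¹`. -/
theorem nonempty_h1Sheaf_conormal : Nonempty (NLCx.H1Sheaf i (Omega.conormal i)) := by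
  choose κ l hκg hlκ hsurj hbij using exists_stalk_comparison i
  let ψ : ∀ W : Z.Opens, Γ(Omega.conormal i, W) →+ Fam i W := fun W =>
    AddMonoidHom.mk' (fun m => ⟨fun z => l z.1 (germM _ W z.1 z.2 m),
      rep_of_section i κ l hκg hlκ hsurj W m⟩) fun a b => Subtype.ext (funext fun z => by
        show l z.1 (germM _ W z.1 z.2 (a + b)) = _ + _
        simp only [germM, map_add])
  have hres : ∀ (W W' : Z.Opens) (h : W' ≤ W) (m : Γ(Omega.conormal i, W)),
      ψ W' ((Omega.conormal i).presheaf.map (homOfLE h).op m) = famRes i h (ψ W m) := by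
    intro W W' h m
    refine Subtype.ext (funext fun z => ?_)
    exact congrArg (l z.1) ((Omega.conormal i).presheaf.germ_res_apply (homOfLE h) z.1 z.2 m)
  have hinj : ∀ W, Function.Injective (ψ W) := fun W a b hab => by
    refine TopCat.Presheaf.section_ext ⟨_, (Omega.conormal i).isSheaf⟩ W a b fun z hz => ?_
    exact (hbij z).1 (congr_fun (congrArg Subtype.val hab) ⟨z, hz⟩)
  refine nonempty_h1Sheaf_of_bijective i (Omega.conormal i) ψ (fun W r m => ?_) hres
    fun W => ⟨hinj W, fun s => ?_⟩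
  · refine Subtype.ext (funext fun z => ?_)
    show l z.1 (germM _ W z.1 z.2 (r • m)) = _
    rw [germM_smul, map_smul]
    rfl
  · have hloc : ∀ z : W.1, ∃ (O : Z.Opens) (hle : O ≤ W.1) (_ : z.1 ∈ O) (t : Γ(Omega.conormal i, O)),
        ψ O t = famRes i hle s := by
      intro z
      obtain ⟨U, V, e, hle, hzU, m, hm⟩ := s.2 z
      obtain ⟨g, hg⟩ := (hbij z.1).2 (s.1 z)
      obtain ⟨T, hzT, t, rfl⟩ := exists_germM_eq (Omega.conormal i) z.1 g
      obtain ⟨U₁, V₁, e₁, hle₁, hzU₁, m₁, hm₁⟩ := (ψ T t).2 ⟨z.1, hzT⟩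
      have heq : chartGerm i U₁ V₁ e₁ z.1 hzU₁ m₁ = chartGerm i U V e z.1 hzU m :=
        ((hm₁ z.1 hzU₁).symm.trans hg).trans (hm z.1 hzU)
      obtain ⟨O, hzO, hO⟩ := exists_nhd_of_germ_eq i e₁ e m₁ m hzU₁ hzU heq
      refine ⟨O ⊓ W.1 ⊓ T, fun y hy => hy.1.2, ⟨⟨hzO, z.2⟩, hzT⟩,
        (Omega.conormal i).presheaf.map (homOfLE (show O ⊓ W.1 ⊓ T ≤ T from inf_le_right)).op t, ?_⟩
      rw [hres]
      refine Subtype.ext (funext fun y => ?_)
      obtain ⟨hy₁, hy, h⟩ := hO y.1 y.2.1.1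
      exact ((hm₁ y.1 hy₁).trans h).trans (hm y.1 hy).symm
    choose O hle hzO t ht using hloc
    obtain ⟨g, hg⟩ := QCoh.exists_glue (Omega.conormal i) hle
      (fun z hz => Opens.mem_iSup.mpr ⟨⟨z, hz⟩, hzO _⟩) t (fun a b => hinj _ (by
        rw [hres, hres, ht, ht]
        exact Subtype.ext rfl))
    refine ⟨g, Subtype.ext (funext fun z => ?_)⟩
    have := congrArg Subtype.val (hres W.1 (O z) (hle z) g)
    rw [show (Omega.conormal i).presheaf.map (homOfLE (hle z)).op g = t z from hg z, ht] at this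
    exact (congr_fun this ⟨z.1, hzO z⟩).symm

omit [QuasiCompact i] in
/-- `Ω` of an immersion vanishes on charts. -/
theorem onCharts_subsingleton_kaehler :
    NLCx.OnCharts i (fun A B _ _ _ => Subsingleton (Ω[B⁄A])) := by
  intro U V e
  letI := (i.appLE V.1 U.1 e).hom.toAlgebra
  have h : RingHom.FormallyUnramified (i.appLE V.1 U.1 e).hom :=
    HasRingHomProperty.appLE (P := @FormallyUnramified) i inferInstance V U e
  exact Algebra.formallyUnramified_iff Γ(X, V.1) Γ(Z, U.1) |>.mp h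

end Groth.Agent.FlatMor.H1
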