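import Groth.Agent.FlatMor.H1.Germ
import Groth.Agent.QCoh.Basic
import Groth.Agent.PullStalk.Sky

/-!
# The sheaf of locally representable families of germs of `H¹`
-/

set_option autoImplicit false
set_option linter.style.haveILetI false

universe u

open CategoryTheory AlgebraicGeometry TopologicalSpace Opposite

namespace Groth.Agent.FlatMor.H1

variable {X Y : Scheme.{u}} (f : X ⟶ Y)

/-- Every point lies in a chart inside a given open. -/
theorem exists_chart {W : X.Opens} {x : X} (hx : x ∈ W) :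
    ∃ (U : X.affineOpens) (V : Y.affineOpens) (_ : U.1 ≤ f ⁻¹ᵁ V.1), x ∈ U.1 ∧ U.1 ≤ W := by
  obtain ⟨V, hV, hxV, -⟩ := exists_isAffineOpen_mem_and_subset (U := (⊤ : Y.Opens)) (x := f x) trivial
  obtain ⟨U, hU, hxU, hle⟩ := exists_isAffineOpen_mem_and_subset (U := W ⊓ f ⁻¹ᵁ V) (x := x) ⟨hx, hxV⟩
  exact ⟨⟨U, hU⟩, ⟨V, hV⟩, fun y hy => (hle hy).2, hxU, fun y hy => (hle hy).1⟩

/-- Two charts have a common refinement inside a given open. -/
theorem exists_chart_le {U U' : X.affineOpens} {V V' : Y.affineOpens} (e : U.1 ≤ f ⁻¹ᵁ V.1)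
    (e' : U'.1 ≤ f ⁻¹ᵁ V'.1) {W : X.Opens} {x : X} (hx : x ∈ U.1) (hx' : x ∈ U'.1) (hW : x ∈ W) :
    ∃ (U'' : X.affineOpens) (V'' : Y.affineOpens) (_ : U''.1 ≤ f ⁻¹ᵁ V''.1),
      x ∈ U''.1 ∧ U''.1 ≤ W ∧ U''.1 ≤ U.1 ∧ U''.1 ≤ U'.1 ∧ V''.1 ≤ V.1 ∧ V''.1 ≤ V'.1 := by
  obtain ⟨V'', hV'', hxV'', hleV⟩ := exists_isAffineOpen_mem_and_subset (U := V.1 ⊓ V'.1) (x := f x)
    ⟨e hx, e' hx'⟩
  obtain ⟨U'', hU'', hxU'', hleU⟩ := exists_isAffineOpen_mem_and_subset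
    (U := W ⊓ U.1 ⊓ U'.1 ⊓ f ⁻¹ᵁ V'') (x := x) ⟨⟨⟨hW, hx⟩, hx'⟩, hxV''⟩
  exact ⟨⟨U'', hU''⟩, ⟨V'', hV''⟩, fun y hy => (hleU hy).2, hxU'', fun y hy => (hleU hy).1.1.1,
    fun y hy => (hleU hy).1.1.2, fun y hy => (hleU hy).1.2, fun y hy => (hleV hy).1,
    fun y hy => (hleV hy).2⟩

/-- Chart sections with equal germs at a point agree nearby. -/
theorem exists_nhd_of_germ_eq {U U' : X.affineOpens} {V V' : Y.affineOpens} (e : U.1 ≤ f ⁻¹ᵁ V.1)
    (e' : U'.1 ≤ f ⁻¹ᵁ V'.1) (m : NLCx.ChartH1 f U V e) (m' : NLCx.ChartH1 f U' V' e') {x : X}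
    (hx : x ∈ U.1) (hx' : x ∈ U'.1)
    (h : chartGerm f U V e x hx m = chartGerm f U' V' e' x hx' m') :
    ∃ O : X.Opens, x ∈ O ∧ ∀ (y) (_ : y ∈ O), ∃ (hy : y ∈ U.1) (hy' : y ∈ U'.1),
      chartGerm f U V e y hy m = chartGerm f U' V' e' y hy' m' := by
  obtain ⟨U'', V'', e'', hx'', -, h₁, h₂, g₁, g₂⟩ := exists_chart_le f e e' (W := ⊤) hx hx' trivial
  let d := NLCx.chartRes e e'' h₁ g₁ m - NLCx.chartRes e' e'' h₂ g₂ m'
  have hd : chartGerm f U'' V'' e'' x hx'' d = 0 := by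
    rw [map_sub, germ_chartRes, germ_chartRes, sub_eq_zero]
    exact h
  obtain ⟨b, hb, hbd⟩ := (chartGerm_localization f U'' V'' e'' x hx'').1 d hd
  refine ⟨X.basicOpen b, hb, fun y hy => ?_⟩
  have hy'' : y ∈ U''.1 := X.basicOpen_le b hy
  refine ⟨h₁ hy'', h₂ hy'', ?_⟩
  have := eq_zero_of_smul f U'' V'' e'' y hy'' hy hbd
  rwa [map_sub, germ_chartRes, germ_chartRes, sub_eq_zero] at this

/-- A family of germs which comes locally from charts. -/
def Rep (W : X.Opens) (s : ∀ x : W, Hx f x.1) : Prop :=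
  ∀ x : W, ∃ (U : X.affineOpens) (V : Y.affineOpens) (e : U.1 ≤ f ⁻¹ᵁ V.1) (hle : U.1 ≤ W)
    (_ : x.1 ∈ U.1) (m : NLCx.ChartH1 f U V e),
    ∀ (y) (hy : y ∈ U.1), s ⟨y, hle hy⟩ = chartGerm f U V e y hy m

noncomputable instance famPi (W : X.Opens) : Module Γ(X, W) (∀ x : W, Hx f x.1) :=
  letI : ∀ x : W, Module Γ(X, W) (Hx f x.1) := fun x =>
    Module.compHom _ (X.presheaf.germ W x.1 x.2).hom
  inferInstanceAs (Module Γ(X, W) (∀ x : W, Hx f x.1))

theorem famPi_smul (W : X.Opens) (r : Γ(X, W)) (s : ∀ x : W, Hx f x.1) (x : W) :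
    (r • s) x = X.presheaf.germ W x.1 x.2 r • s x := rfl

/-- The sections over `W` of the sheaf `H¹`. -/
noncomputable def Fam (W : X.Opens) : Submodule Γ(X, W) (∀ x : W, Hx f x.1) where
  carrier := {s | Rep f W s}
  zero_mem' x := by
    obtain ⟨U, V, e, hx, hle⟩ := exists_chart f x.2
    exact ⟨U, V, e, hle, hx, 0, fun y hy => (map_zero _).symm⟩
  add_mem' := by
    intro s t hs ht x
    obtain ⟨U, V, e, hle, hx, m, hm⟩ := hs x
    obtain ⟨U', V', e', hle', hx', m', hm'⟩ := ht x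
    obtain ⟨U'', V'', e'', hx'', hW, h₁, h₂, g₁, g₂⟩ := exists_chart_le f e e' hx hx' x.2
    refine ⟨U'', V'', e'', hW, hx'',
      NLCx.chartRes e e'' h₁ g₁ m + NLCx.chartRes e' e'' h₂ g₂ m', fun y hy => ?_⟩
    rw [map_add, germ_chartRes, germ_chartRes, ← hm y (h₁ hy), ← hm' y (h₂ hy)]
    rfl
  smul_mem' := by
    intro r s hs x
    obtain ⟨U, V, e, hle, hx, m, hm⟩ := hs x
    refine ⟨U, V, e, hle, hx, X.presheaf.map (homOfLE hle).op r • m, fun y hy => ?_⟩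
    refine (famPi_smul f W r s ⟨y, hle hy⟩).trans ?_
    rw [chartGerm_smul, hm y hy]
    exact congrArg (· • _) (X.presheaf.germ_res_apply (homOfLE hle) y hy r).symm

theorem rep_restrict {W W' : X.Opens} (h : W' ≤ W) (s : Fam f W) :
    Rep f W' (fun x => s.1 ⟨x.1, h x.2⟩) := by
  intro x
  obtain ⟨U, V, e, hle, hx, m, hm⟩ := s.2 ⟨x.1, h x.2⟩
  obtain ⟨U'', V'', e'', hx'', hW, h₁, -, g₁, -⟩ := exists_chart_le f e e hx hx x.2
  refine ⟨U'', V'', e'', hW, hx'', NLCx.chartRes e e'' h₁ g₁ m, fun y hy => ?_⟩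
  rw [germ_chartRes]
  exact hm y (h₁ hy)

/-- Restriction of families. -/
noncomputable def famRes {W W' : X.Opens} (h : W' ≤ W) : Fam f W →+ Fam f W' :=
  AddMonoidHom.mk' (fun s => ⟨fun x => s.1 ⟨x.1, h x.2⟩, rep_restrict f h s⟩) fun _ _ => rfl

/-- The abelian presheaf of families. -/
noncomputable def famAb : TopCat.Presheaf Ab.{u} X where
  obj W := AddCommGrpCat.of (Fam f W.unop)
  map {W W'} i := AddCommGrpCat.ofHom (famRes f (leOfHom i.unop))
  map_id _ := rfl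
  map_comp _ _ := rfl

noncomputable instance famModule (W : X.Opensᵒᵖ) :
    Module (X.ringCatSheaf.obj.obj W) ((famAb f).obj W) :=
  inferInstanceAs (Module Γ(X, W.unop) (Fam f W.unop))

theorem famAb_isSheaf : TopCat.Presheaf.IsSheaf (famAb f) := by
  rw [TopCat.Presheaf.isSheaf_iff_isSheafUniqueGluing]
  intro ι U sf hsf
  classical
  have hex : ∀ x : (iSup U : X.Opens), ∃ i, x.1 ∈ U i := fun x => Opens.mem_iSup.mp x.2
  let t : ∀ i, Fam f (U i) := sf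
  have hcompat : ∀ (i j : ι) (y : X) (hi : y ∈ U i) (hj : y ∈ U j),
      (t i).1 ⟨y, hi⟩ = (t j).1 ⟨y, hj⟩ := fun i j y hi hj =>
    congr_fun (congrArg Subtype.val (hsf i j)) ⟨y, ⟨hi, hj⟩⟩
  let s : ∀ x : (iSup U : X.Opens), Hx f x.1 := fun x =>
    (t (hex x).choose).1 ⟨x.1, (hex x).choose_spec⟩
  have hs : Rep f (iSup U) s := by
    intro x
    obtain ⟨i, hi⟩ := hex x
    obtain ⟨V, W, e, hle, hx, m, hm⟩ := (t i).2 ⟨x.1, hi⟩
    refine ⟨V, W, e, hle.trans (le_iSup U i), hx, m, fun y hy => ?_⟩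
    exact (hcompat (hex ⟨y, le_iSup U i (hle hy)⟩).choose i y (hex ⟨y, le_iSup U i (hle hy)⟩).choose_spec
      (hle hy)).trans (hm y hy)
  refine ⟨⟨s, hs⟩, fun i => ?_, fun g hg => ?_⟩
  · exact Subtype.ext (funext fun y => hcompat (hex ⟨y.1, le_iSup U i y.2⟩).choose i y.1
      (hex ⟨y.1, le_iSup U i y.2⟩).choose_spec y.2)
  · refine Subtype.ext (funext fun x => ?_)
    exact congr_fun (congrArg Subtype.val (hg (hex x).choose)) ⟨x.1, (hex x).choose_spec⟩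

/-- The sheaf `H¹` as an `O_X`-module. -/
noncomputable def famMod : X.Modules :=
  ⟨PresheafOfModules.ofPresheaf (R := X.ringCatSheaf.obj) (famAb f)
    (fun {W W'} i r s => by
      refine Subtype.ext (funext fun x => ?_)
      exact congrArg (fun c : X.presheaf.stalk x.1 => c • (show Fam f W.unop from s).1 ⟨x.1, leOfHom i.unop x.2⟩)
        (X.presheaf.germ_res_apply i.unop x.1 x.2 r).symm),
    famAb_isSheaf f⟩

/-- A chart section as a family. -/
noncomputable def toFam (U : X.affineOpens) (V : Y.affineOpens) (e : U.1 ≤ f ⁻¹ᵁ V.1) :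
    NLCx.ChartH1 f U V e →+ Fam f U.1 :=
  AddMonoidHom.mk' (fun m => ⟨fun x => chartGerm f U V e x.1 x.2 m, fun x =>
    ⟨U, V, e, le_rfl, x.2, m, fun _ _ => rfl⟩⟩)
    fun a b => Subtype.ext (funext fun x => map_add _ a b)

/-- On a chart every family comes from a unique chart section. -/
theorem toFam_bijective (U : X.affineOpens) (V : Y.affineOpens) (e : U.1 ≤ f ⁻¹ᵁ V.1) :
    Function.Bijective (toFam f U V e) := by
  classical
  refine ⟨fun m m' h => eq_of_germ_eq f U V e m m' fun x hx =>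
    congr_fun (congrArg Subtype.val h) ⟨x, hx⟩, fun s => ?_⟩
  have hloc : ∀ x : U.1, ∃ (b : Γ(X, U.1)) (a : NLCx.ChartH1 f U V e), x.1 ∈ X.basicOpen b ∧
      ∀ (y) (hy : y ∈ U.1), y ∈ X.basicOpen b →
        X.presheaf.germ U.1 y hy b • s.1 ⟨y, hy⟩ = chartGerm f U V e y hy a := by
    intro x
    obtain ⟨U₁, V₁, e₁, hle, hx₁, m₁, hm₁⟩ := s.2 x
    obtain ⟨a, b, hxb, hab⟩ := (chartGerm_localization f U V e x.1 x.2).2 (s.1 x)
    have heq : chartGerm f U₁ V₁ e₁ x.1 hx₁ (X.presheaf.map (homOfLE hle).op b • m₁) =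
        chartGerm f U V e x.1 x.2 a := by
      rw [chartGerm_smul, ← hm₁ x.1 hx₁, ← hab]
      exact congrArg (· • _) (X.presheaf.germ_res_apply (homOfLE hle) x.1 hx₁ b)
    obtain ⟨O, hxO, hO⟩ := exists_nhd_of_germ_eq f e₁ e _ a hx₁ x.2 heq
    obtain ⟨d, hd, hxd⟩ := U.2.exists_basicOpen_le ⟨x.1, show x.1 ∈ O ⊓ X.basicOpen b from ⟨hxO, hxb⟩⟩ x.2
    refine ⟨d * b, d • a, ?_, fun y hy hyd => ?_⟩
    · rw [X.basicOpen_mul]; exact ⟨hxd, hxb⟩
    · rw [X.basicOpen_mul] at hyd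
      obtain ⟨hy₁, hy₂, h⟩ := hO y (hd hyd.1).1
      rw [chartGerm_smul, ← h, chartGerm_smul, ← hm₁ y hy₁, map_mul, mul_smul]
      exact congrArg (_ • ·) (congrArg (· • _) (X.presheaf.germ_res_apply (homOfLE hle) y hy₁ b).symm)
  choose b a hxb hab using hloc
  obtain ⟨t, ht⟩ := U.2.isCompact.elim_finite_subcover (fun x : U.1 => (X.basicOpen (b x) : Set X))
    (fun x => (X.basicOpen _).2) fun x hx => Set.mem_iUnion.mpr ⟨⟨x, hx⟩, hxb _⟩
  have hkill : ∀ i j : t, ∃ n : ℕ, (b i.1 * b j.1) ^ n • (b i.1 • a j.1 - b j.1 • a i.1) = 0 := by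
    intro i j
    refine exists_pow_smul_eq_zero f U V e _ _ fun y hy hyb => ?_
    rw [X.basicOpen_mul] at hyb
    rw [map_sub, chartGerm_smul, chartGerm_smul, ← hab i.1 y hy hyb.1, ← hab j.1 y hy hyb.2,
      ← mul_smul, ← mul_smul, mul_comm, sub_self]
  choose n hn using hkill
  let N := Finset.univ.sup fun p : t × t => n p.1 p.2
  have hN : ∀ i j : t, (b i.1 * b j.1) ^ N • (b i.1 • a j.1 - b j.1 • a i.1) = 0 := fun i j => by
    obtain ⟨k, hk⟩ := Nat.exists_eq_add_of_le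
      (Finset.le_sup (f := fun p : t × t => n p.1 p.2) (Finset.mem_univ (i, j)))
    rw [show N = n i j + k from hk, pow_add, mul_comm, mul_smul, hn i j, smul_zero]
  let c : t → Γ(X, U.1) := fun i => b i.1 ^ (N + 1)
  let a' : t → NLCx.ChartH1 f U V e := fun i => b i.1 ^ N • a i.1
  have hc : ∀ i j, c i • a' j = c j • a' i := fun i j => by
    have := hN i j
    rw [smul_sub, sub_eq_zero, ← mul_smul, ← mul_smul] at this
    simp only [c, a', ← mul_smul]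
    convert this using 2 <;> ring
  have hspan : Ideal.span (Set.range c) = ⊤ := by
    rw [← U.2.self_le_iSup_basicOpen_iff]
    intro y hy
    obtain ⟨i, hi, hyi⟩ := Set.mem_iUnion₂.mp (ht hy)
    refine Opens.mem_iSup.mpr ⟨⟨c ⟨i, hi⟩, ⟨i, hi⟩, rfl⟩, ?_⟩
    rw [SetLike.mem_coe, X.mem_basicOpen (b i) y hy] at hyi
    rw [X.mem_basicOpen _ y hy, map_pow]
    exact hyi.pow _
  obtain ⟨r, hr⟩ := Ideal.mem_span_range_iff_exists_fun.mp ((Ideal.eq_top_iff_one _).mp hspan)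
  refine ⟨∑ i, r i • a' i, Subtype.ext (funext fun y => ?_)⟩
  obtain ⟨j, hj, hyj⟩ := Set.mem_iUnion₂.mp (ht y.2)
  have hu : IsUnit (X.presheaf.germ U.1 y.1 y.2 (c ⟨j, hj⟩)) := by
    rw [map_pow]
    exact ((X.mem_basicOpen (b j) y.1 y.2).mp hyj).pow _
  apply hu.smul_left_cancel.mp
  show _ • chartGerm f U V e y.1 y.2 _ = _ • s.1 y
  rw [← chartGerm_smul, show c ⟨j, hj⟩ • ∑ i, r i • a' i = (∑ i, r i * c i) • a' ⟨j, hj⟩ by
    rw [Finset.smul_sum, Finset.sum_smul]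
    refine Finset.sum_congr rfl fun i _ => ?_
    rw [smul_comm, hc, mul_smul], hr, one_smul, map_pow, pow_succ, mul_smul, hab j y.1 y.2 hyj,
    chartGerm_smul, map_pow]

/-- Maps to families, bijective over affine opens, give the data of `H¹`. -/
theorem nonempty_h1Sheaf_of_bijective (M : X.Modules) (ψ : ∀ W : X.Opens, Γ(M, W) →+ Fam f W)
    (hsmul : ∀ (W : X.Opens) (r : Γ(X, W)) (m : Γ(M, W)), ψ W (r • m) = r • ψ W m)
    (hres : ∀ (W W' : X.Opens) (h : W' ≤ W) (m : Γ(M, W)),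
      ψ W' (M.presheaf.map (homOfLE h).op m) = famRes f h (ψ W m))
    (hbij : ∀ U : X.affineOpens, Function.Bijective (ψ U.1)) :
    Nonempty (NLCx.H1Sheaf f M) := by
  let E : ∀ (U : X.affineOpens) (V : Y.affineOpens) (e : U.1 ≤ f ⁻¹ᵁ V.1),
      (M.val.obj (op U.1) : Type u) ≃+ NLCx.ChartH1 f U V e := fun U V e =>
    (AddEquiv.ofBijective (ψ U.1) (hbij U)).trans
      (AddEquiv.ofBijective (toFam f U V e) (toFam_bijective f U V e)).symm
  have hE : ∀ (U : X.affineOpens) (V : Y.affineOpens) (e : U.1 ≤ f ⁻¹ᵁ V.1) (m : Γ(M, U.1)) (x : U.1),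
      chartGerm f U V e x.1 x.2 (E U V e m) = (ψ U.1 m).1 x := fun U V e m x =>
    congr_fun (congrArg Subtype.val
      ((AddEquiv.ofBijective (toFam f U V e) (toFam_bijective f U V e)).apply_symm_apply (ψ U.1 m))) x
  refine ⟨⟨E, fun U V e a m => eq_of_germ_eq f U V e _ _ fun x hx => ?_,
    fun {U U' V V'} e e' hU hV m => eq_of_germ_eq f U' V' e' _ _ fun x hx => ?_⟩⟩
  · rw [chartGerm_smul]
    refine (hE U V e _ ⟨x, hx⟩).trans ?_
    rw [hE U V e m ⟨x, hx⟩]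
    exact congr_fun (congrArg Subtype.val (hsmul U.1 a m)) ⟨x, hx⟩
  · rw [germ_chartRes]
    refine (hE U' V' e' _ ⟨x, hx⟩).trans ?_
    refine (congr_fun (congrArg Subtype.val (hres U.1 U'.1 hU m)) ⟨x, hx⟩).trans ?_
    exact (hE U V e m ⟨x, hU hx⟩).symm

theorem exists_h1Sheaf : ∃ F : X.Modules, Nonempty (NLCx.H1Sheaf f F) :=
  ⟨famMod f, nonempty_h1Sheaf_of_bijective f (famMod f) (fun W => AddMonoidHom.id _)
    (fun _ _ _ => rfl) (fun _ _ _ _ => rfl) fun _ => Function.bijective_id⟩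

/-- A module carrying the data of `H¹` is quasi-coherent. -/
theorem isQuasicoherent_of_h1Sheaf (F : X.Modules) (c : NLCx.H1Sheaf f F) : F.IsQuasicoherent := by
  refine QCoh.isQuasicoherent_of_forall_exists_isLocalizingAt F fun x => ?_
  obtain ⟨U, V, e, hx, -⟩ := exists_chart f (show x ∈ (⊤ : X.Opens) from trivial)
  refine ⟨U.1, U.2, hx, fun b => ?_⟩
  let U' : X.affineOpens := X.affineBasicOpen b
  have hU : U'.1 ≤ U.1 := X.basicOpen_le b
  let e' : U'.1 ≤ f ⁻¹ᵁ V.1 := hU.trans e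
  haveI := U.2.isLocalization_basicOpen b
  have hid : (Y.presheaf.map (homOfLE (le_refl V.1)).op).hom = RingHom.id _ := by
    simp
  obtain ⟨h1, h2⟩ := mapH_localization (f.appLE V.1 U.1 e).hom (f.appLE V.1 U'.1 e').hom
    (Y.presheaf.map (homOfLE (le_refl V.1)).op).hom (X.presheaf.map (homOfLE hU).op).hom
    (appLE_res f e e' hU le_rfl) ⊥ (by
      rw [hid]
      exact IsLocalization.at_units fun x hx => by rw [Submonoid.mem_bot.mp hx]; exact isUnit_one)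
    (Submonoid.powers b) (U.2.isLocalization_basicOpen b)
  refine ⟨fun s => ?_, fun t ht => ?_⟩
  · obtain ⟨m, b', ⟨n, rfl⟩, hm⟩ := h2 (c.iso U' V e' s)
    refine ⟨n, (c.iso U V e).symm m, (c.iso U' V e').injective ?_⟩
    refine Eq.trans ?_ (c.map_smul U' V e' _ s).symm
    refine (c.map_res e e' hU le_rfl _).trans ?_
    rw [AddEquiv.apply_symm_apply, chartRes_eq, ← hm, map_pow]
    rfl
  · have h0 : NLCx.chartRes e e' hU le_rfl (c.iso U V e t) = 0 := by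
      rw [← c.map_res e e' hU le_rfl]
      exact (congrArg _ ht).trans (map_zero _)
    obtain ⟨b', ⟨n, rfl⟩, hn⟩ := h1 _ ((chartRes_eq f e e' hU le_rfl _).symm.trans h0)
    refine ⟨n, (c.iso U V e).injective ?_⟩
    refine (c.map_smul U V e _ t).trans ?_
    exact hn.trans (map_zero _).symm

end Groth.Agent.FlatMor.H1
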