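import Groth.Agent.FlatMor.H1.Alg
import Groth.Prelude.Def_SheafNL

/-!
# Germs of chart sections of `H¹` of the naive cotangent complex
-/

set_option autoImplicit false
set_option linter.style.haveILetI false

universe u

open CategoryTheory AlgebraicGeometry TopologicalSpace Opposite

namespace Groth.Agent.FlatMor.H1

variable {X Y : Scheme.{u}} (f : X ⟶ Y)

/-- `H¹` of the naive cotangent complex of the map of local rings at `x`. -/
noncomputable abbrev Hx (x : X) : Type u := H (f.stalkMap x).hom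

theorem appLE_germ {U : X.Opens} {V : Y.Opens} (e : U ≤ f ⁻¹ᵁ V) (x : X) (hx : x ∈ U) :
    (f.stalkMap x).hom.comp (Y.presheaf.germ V (f x) (e hx)).hom =
      (X.presheaf.germ U x hx).hom.comp (f.appLE V U e).hom := by
  refine RingHom.ext fun r => ?_
  refine (f.germ_stalkMap_apply V x (e hx) r).trans ?_
  exact (TopCat.Presheaf.germ_res_apply X.presheaf (homOfLE e) x hx (f.app V r)).symm

variable (U : X.affineOpens) (V : Y.affineOpens) (e : U.1 ≤ f ⁻¹ᵁ V.1)

/-- The germ of a chart section. -/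
noncomputable def chartGerm (x : X) (hx : x ∈ U.1) : NLCx.ChartH1 f U V e →+ Hx f x :=
  mapH (f.appLE V.1 U.1 e).hom (f.stalkMap x).hom (Y.presheaf.germ V.1 (f x) (e hx)).hom
    (X.presheaf.germ U.1 x hx).hom (appLE_germ f e x hx)

theorem chartGerm_smul (x : X) (hx : x ∈ U.1) (a : Γ(X, U.1)) (m : NLCx.ChartH1 f U V e) :
    chartGerm f U V e x hx (a • m) = X.presheaf.germ U.1 x hx a • chartGerm f U V e x hx m :=
  mapH_smul (f.appLE V.1 U.1 e).hom (f.stalkMap x).hom _ _ _ a m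

variable {U V}

theorem appLE_res {U' : X.affineOpens} {V' : Y.affineOpens} (e' : U'.1 ≤ f ⁻¹ᵁ V'.1) (hU : U'.1 ≤ U.1)
    (hV : V'.1 ≤ V.1) :
    (f.appLE V'.1 U'.1 e').hom.comp (Y.presheaf.map (homOfLE hV).op).hom =
      (X.presheaf.map (homOfLE hU).op).hom.comp (f.appLE V.1 U.1 e).hom := by
  rw [← CommRingCat.hom_comp, ← CommRingCat.hom_comp, Scheme.Hom.map_appLE, Scheme.Hom.appLE_map]

theorem chartRes_eq {U' : X.affineOpens} {V' : Y.affineOpens} (e' : U'.1 ≤ f ⁻¹ᵁ V'.1)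
    (hU : U'.1 ≤ U.1) (hV : V'.1 ≤ V.1) (m : NLCx.ChartH1 f U V e) :
    NLCx.chartRes e e' hU hV m =
      mapH (f.appLE V.1 U.1 e).hom (f.appLE V'.1 U'.1 e').hom (Y.presheaf.map (homOfLE hV).op).hom
        (X.presheaf.map (homOfLE hU).op).hom (appLE_res f e e' hU hV) m := rfl

theorem germ_chartRes {U' : X.affineOpens} {V' : Y.affineOpens} (e' : U'.1 ≤ f ⁻¹ᵁ V'.1)
    (hU : U'.1 ≤ U.1) (hV : V'.1 ≤ V.1) (x : X) (hx : x ∈ U'.1) (m : NLCx.ChartH1 f U V e) :
    chartGerm f U' V' e' x hx (NLCx.chartRes e e' hU hV m) = chartGerm f U V e x (hU hx) m := by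
  rw [chartRes_eq]
  refine mapH_comp _ _ _ _ _ _ _ _ _ _ _ _ ?_ ?_ m
  · rw [← CommRingCat.hom_comp, TopCat.Presheaf.germ_res]
  · rw [← CommRingCat.hom_comp, TopCat.Presheaf.germ_res]

theorem chartRes_smul {U' : X.affineOpens} {V' : Y.affineOpens} (e' : U'.1 ≤ f ⁻¹ᵁ V'.1)
    (hU : U'.1 ≤ U.1) (hV : V'.1 ≤ V.1) (a : Γ(X, U.1)) (m : NLCx.ChartH1 f U V e) :
    NLCx.chartRes e e' hU hV (a • m) =
      X.presheaf.map (homOfLE hU).op a • NLCx.chartRes e e' hU hV m := by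
  rw [chartRes_eq, chartRes_eq]
  exact mapH_smul _ _ _ _ _ a m

variable (U V)

/-- The germ map is a localization at the prime of the point. -/
theorem chartGerm_localization (x : X) (hx : x ∈ U.1) :
    (∀ m, chartGerm f U V e x hx m = 0 → ∃ b : Γ(X, U.1), x ∈ X.basicOpen b ∧ b • m = 0) ∧
      ∀ y, ∃ (m : NLCx.ChartH1 f U V e) (b : Γ(X, U.1)), x ∈ X.basicOpen b ∧
        X.presheaf.germ U.1 x hx b • y = chartGerm f U V e x hx m := by
  obtain ⟨h1, h2⟩ := mapH_localization (f.appLE V.1 U.1 e).hom (f.stalkMap x).hom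
    (Y.presheaf.germ V.1 (f x) (e hx)).hom (X.presheaf.germ U.1 x hx).hom (appLE_germ f e x hx)
    (V.2.primeIdealOf ⟨f x, e hx⟩).asIdeal.primeCompl (V.2.isLocalization_stalk ⟨f x, e hx⟩)
    (U.2.primeIdealOf ⟨x, hx⟩).asIdeal.primeCompl (U.2.isLocalization_stalk ⟨x, hx⟩)
  have hmem : ∀ b : Γ(X, U.1), b ∈ (U.2.primeIdealOf ⟨x, hx⟩).asIdeal.primeCompl →
      x ∈ X.basicOpen b := fun b hb => by
    let := TopCat.Presheaf.algebra_section_stalk X.presheaf (U := U.1) ⟨x, hx⟩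
    have := U.2.isLocalization_stalk ⟨x, hx⟩
    rw [Scheme.mem_basicOpen X b x hx]
    exact IsLocalization.map_units (X.presheaf.stalk x)
      (⟨b, hb⟩ : (U.2.primeIdealOf ⟨x, hx⟩).asIdeal.primeCompl)
  refine ⟨fun m hm => ?_, fun y => ?_⟩
  · obtain ⟨b, hb, hbm⟩ := h1 m hm
    exact ⟨b, hmem b hb, hbm⟩
  · obtain ⟨m, b, hb, hy⟩ := h2 y
    exact ⟨m, b, hmem b hb, hy⟩

theorem eq_zero_of_smul (x : X) (hx : x ∈ U.1) {b : Γ(X, U.1)} (hb : x ∈ X.basicOpen b)
    {m : NLCx.ChartH1 f U V e} (hm : b • m = 0) : chartGerm f U V e x hx m = 0 := by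
  have h := congrArg (chartGerm f U V e x hx) hm
  rw [chartGerm_smul, map_zero] at h
  exact ((X.mem_basicOpen b x hx).mp hb).smul_eq_zero.mp h

/-- A section with zero germs on a basic open is killed by a power. -/
theorem exists_pow_smul_eq_zero (b : Γ(X, U.1)) (m : NLCx.ChartH1 f U V e)
    (h : ∀ x (hx : x ∈ U.1), x ∈ X.basicOpen b → chartGerm f U V e x hx m = 0) :
    ∃ n : ℕ, b ^ n • m = 0 := by
  have hrad : b ∈ (Submodule.span Γ(X, U.1) {m}).annihilator.radical := by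
    rw [Ideal.radical_eq_sInf, Submodule.mem_sInf]
    rintro P ⟨hP, hPprime⟩
    by_contra hbP
    let q : PrimeSpectrum Γ(X, U.1) := ⟨P, hPprime⟩
    have hx : U.2.fromSpec q ∈ U.1 := U.2.range_fromSpec.le ⟨q, rfl⟩
    have hp : U.2.primeIdealOf ⟨U.2.fromSpec q, hx⟩ = q :=
      U.2.fromSpec.isOpenEmbedding.injective (U.2.fromSpec_primeIdealOf _)
    have hxb : U.2.fromSpec q ∈ X.basicOpen b := by
      have : q ∈ U.2.fromSpec ⁻¹ᵁ X.basicOpen b := by
        rw [U.2.fromSpec_preimage_basicOpen]; exact hbP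
      exact this
    obtain ⟨c, hc, hcm⟩ := (chartGerm_localization f U V e _ hx).1 m (h _ hx hxb)
    have hcP : c ∈ P := hP ((Submodule.mem_annihilator_span_singleton m c).mpr hcm)
    have : q ∈ U.2.fromSpec ⁻¹ᵁ X.basicOpen c := hc
    rw [U.2.fromSpec_preimage_basicOpen] at this
    exact this hcP
  obtain ⟨n, hn⟩ := hrad
  exact ⟨n, (Submodule.mem_annihilator_span_singleton m _).mp hn⟩

/-- A section is determined by its germs. -/
theorem eq_of_germ_eq (m m' : NLCx.ChartH1 f U V e)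
    (h : ∀ x (hx : x ∈ U.1), chartGerm f U V e x hx m = chartGerm f U V e x hx m') : m = m' := by
  obtain ⟨n, hn⟩ := exists_pow_smul_eq_zero f U V e 1 (m - m') fun x hx _ => by
    rw [map_sub, h x hx, sub_self]
  rw [one_pow, one_smul] at hn
  exact sub_eq_zero.mp hn

end Groth.Agent.FlatMor.H1
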